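import Cfsg.Agent.H475.KGL.Rows
import Cfsg.Agent.H450.FratMod
import Cfsg.Agent.H442.HallGen
import Cfsg.Prelude.Def_CaseTheorems

/-!
# Project KGL (hub helper475), F2: S4533 from the linear theorem (helper415)
-/

set_option autoImplicit false

namespace Cfsg.Agent.H415.KGL.F2

open Cfsg Subgroup Cfsg.Agent.H475.KGL

universe u

theorem kc_le_of_surj {G H : Type*} [Group G] [Finite G] [Group H] (f : G →* H) (hf : Function.Surjective f) :
    kc H ≤ kc G := by
  have : Finite (ConjClasses G) := inferInstance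
  refine Nat.card_le_card_of_surjective (ConjClasses.map f) ?_
  intro c
  obtain ⟨h, rfl⟩ := ConjClasses.exists_rep c
  obtain ⟨g, rfl⟩ := hf h
  exact ⟨ConjClasses.mk g, rfl⟩

/-- the order of an elementary abelian section -/
theorem sec_bound {p r : ℕ} {P : Type*} [Group P] [Finite P] (hr : SectionalPRankLE p r P) {H : Subgroup P}
    {Q : Type*} [Group Q] (f : H →* Q) (hf : Function.Surjective f) (hc : ∀ a b : Q, a * b = b * a)
    (hp : ∀ a : Q, a ^ p = 1) : Nat.card Q ≤ p ^ r := by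
  let e : H ⧸ f.ker ≃* Q := QuotientGroup.quotientKerEquivOfSurjective f hf
  have h1 := hr H f.ker ⊤ ⟨⟨fun a b => Subtype.ext (e.injective (by
    show e ((a : H ⧸ f.ker) * b) = e ((b : H ⧸ f.ker) * a)
    rw [map_mul, map_mul, hc]))⟩⟩ (fun a _ => e.injective (by rw [map_pow, hp, map_one]))
  rwa [card_top, Nat.card_congr e.toEquiv] at h1

theorem kc_lt (hM : ∀ (p : ℕ) [Fact p.Prime] (V : Type u) [AddCommGroup V] [Module (ZMod p) V] [Finite V]
    [Nontrivial V], Bd p V) {X : Type u} [Group X] [Finite X] [Nontrivial X] (p : ℕ) [hp : Fact p.Prime]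
    (hsolv : IsPSolvable p X) (hcore : pPrimeCore p X = ⊥) (r : ℕ) (hr : SectionalPRankLE p r ↥(pCore p X))
    (T : Subgroup X) (hT : (Nat.card T).Coprime p) : kc T < p ^ r := by
  obtain ⟨V, i1, i2, i3, φ, π, hπ, -, hker⟩ := H450.FratMod.exists_module hsolv hcore
  have hPp : IsPGroup p (pCore p X) := Lib.Cores.pCore_isPGroup p
  have hVr : Nat.card V ≤ p ^ r := by
    have h1 := sec_bound hr (H := ⊤) (π.comp (⊤ : Subgroup ↥(pCore p X)).subtype) (by
      intro v
      obtain ⟨u, rfl⟩ := hπ v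
      exact ⟨⟨u, mem_top u⟩, rfl⟩) (fun a b => mul_comm a b) (fun a => by
      have h2 : (p : ZMod p) • (Multiplicative.toAdd a) = 0 := by
        rw [ZMod.natCast_self, zero_smul]
      rw [Nat.cast_smul_eq_nsmul] at h2
      exact h2)
    exact h1
  have hTp : ∀ x ∈ T, x ∈ pCore p X → x = 1 := by
    intro x hxT hxP
    obtain ⟨k, hk⟩ := hPp ⟨x, hxP⟩
    have h1 : x ^ p ^ k = 1 := congrArg Subtype.val hk
    have h2 : orderOf x ∣ p ^ k := orderOf_dvd_of_pow_eq_one h1
    have h3 : orderOf x ∣ Nat.card T := by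
      rw [← Subgroup.orderOf_mk x hxT]
      exact orderOf_dvd_natCard _
    have h4 : orderOf x ∣ 1 := by
      have h5 : (Nat.card T).Coprime (p ^ k) := hT.pow_right k
      rw [← h5.gcd_eq_one]
      exact Nat.dvd_gcd h3 h2
    exact orderOf_eq_one_iff.1 (Nat.dvd_one.1 h4)
  rcases subsingleton_or_nontrivial V with hV | hV
  · -- `X` is a `p`-group
    have htop : pCore p X = ⊤ := by
      rw [← hker, eq_top_iff]
      intro x _
      rw [MonoidHom.mem_ker]
      ext v
      exact Subsingleton.elim _ _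
    have hT1 : T = ⊥ := by
      rw [eq_bot_iff]
      intro x hx
      exact hTp x hx (htop ▸ mem_top x)
    have hk1 : kc T ≤ 1 := by
      have : Subsingleton T := by rw [hT1]; infer_instance
      have : Subsingleton (ConjClasses T) := by
        refine ⟨fun a b => ?_⟩
        obtain ⟨a, rfl⟩ := ConjClasses.exists_rep a
        obtain ⟨b, rfl⟩ := ConjClasses.exists_rep b
        rw [Subsingleton.elim a b]
      exact Finite.card_le_one_iff_subsingleton.2 this
    have hnt : Nontrivial (pCore p X) := by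
      obtain ⟨x, hx⟩ := exists_ne (1 : X)
      exact ⟨⟨⟨x, htop ▸ mem_top x⟩, 1, fun h => hx (congrArg Subtype.val h)⟩⟩
    obtain ⟨n, hn0, hcard⟩ := (IsPGroup.nontrivial_iff_card hPp).1 hnt
    obtain ⟨z, hz⟩ := exists_prime_orderOf_dvd_card' (G := ↥(pCore p X)) p (by
      rw [hcard]; exact dvd_pow_self p (by omega))
    have hzp : z ^ p = 1 := by
      have h1 := pow_orderOf_eq_one z
      rwa [hz] at h1
    have h1 := sec_bound hr (H := zpowers z) (MonoidHom.id _) Function.surjective_id (by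
      rintro ⟨a, n, rfl⟩ ⟨b, k, rfl⟩
      exact Subtype.ext ((Commute.refl z).zpow_zpow n k).eq) (by
      rintro ⟨a, n, rfl⟩
      apply Subtype.ext
      show (z ^ n) ^ p = 1
      rw [← zpow_natCast, ← zpow_mul, mul_comm, zpow_mul, zpow_natCast, hzp, one_zpow])
    rw [Nat.card_zpowers, hz] at h1
    have h2 := hp.out.two_le
    omega
  · let f : T →* (V ≃ₗ[ZMod p] V) := φ.comp T.subtype
    have hf : Function.Injective f := by
      rw [injective_iff_map_eq_one]
      intro x hx
      apply Subtype.ext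
      refine hTp x x.2 ?_
      rw [← hker]
      exact hx
    let e : T ≃* f.range := MonoidHom.ofInjective hf
    have h1 : ¬ p ∣ Nat.card f.range := by
      rw [← Nat.card_congr e.toEquiv]
      intro h2
      have h3 := Nat.eq_one_of_dvd_coprimes hT h2 dvd_rfl
      exact hp.out.one_lt.ne' h3
    have h2 := (hM p V f.range h1).1
    have hfr : Finite f.range := Finite.of_equiv _ e.toEquiv
    have h3 : kc T ≤ kc f.range := kc_le_of_surj e.symm.toMonoidHom e.symm.surjective
    have h4 : 0 < Nat.card V := Nat.card_pos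
    omega

/-- **S4533 from the linear theorem.** -/
theorem s4533_of (hM : ∀ (p : ℕ) [Fact p.Prime] (V : Type u) [AddCommGroup V] [Module (ZMod p) V] [Finite V]
    [Nontrivial V], Bd p V) {X : Type u} [Group X] [Finite X] [Nontrivial X] (p : ℕ) [hp : Fact p.Prime]
    (hsolv : Cfsg.IsPSolvable p X) (hcore : Cfsg.pPrimeCore p X = ⊥) (r : ℕ)
    (hr : Cfsg.SectionalPRankLE p r ↥(Cfsg.pCore p X)) :
    (∀ T : Subgroup X, (Nat.card T).Coprime p → (∃ m : ℕ, T.index = p ^ m) → Nat.card (ConjClasses T) < p ^ r) ∧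
      Nat.card {C : ConjClasses X // ∃ g : X, ConjClasses.mk g = C ∧ ¬ p ∣ orderOf g} < p ^ r := by
  refine ⟨fun T hT _ => kc_lt hM p hsolv hcore r hr T hT, ?_⟩
  obtain ⟨T, hT, hdom⟩ := H442.HallGen.exists_hall (H442.HallGen.dclass_of_pSolvable p _ X rfl hsolv)
  have hTp : (Nat.card T).Coprime p := by
    rw [Nat.coprime_comm, hp.out.coprime_iff_not_dvd]
    intro h1
    exact hT.card p hp.out h1 rfl
  refine lt_of_le_of_lt ?_ (kc_lt hM p hsolv hcore r hr T hTp)
  have hdom' : ∀ g : X, ¬ p ∣ orderOf g → ∃ x : X, x * g * x⁻¹ ∈ T := by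
    intro g hg
    obtain ⟨x, hx⟩ := hdom (zpowers g) (by
      intro q hq hqd
      rw [Nat.card_zpowers] at hqd
      show q ≠ p
      rintro rfl
      exact hg hqd)
    exact ⟨x, hx ⟨g, mem_zpowers g, rfl⟩⟩
  have hord : ∀ t : T, ¬ p ∣ orderOf (t : X) := by
    intro t h1
    rw [Subgroup.orderOf_coe] at h1
    exact (hp.out.coprime_iff_not_dvd.1 (Nat.coprime_comm.1 hTp)) (h1.trans (orderOf_dvd_natCard t))
  refine Nat.card_le_card_of_surjective (fun c : ConjClasses T =>
    (⟨ConjClasses.map T.subtype c, ?_⟩ : {C : ConjClasses X // ∃ g : X, ConjClasses.mk g = C ∧ ¬ p ∣ orderOf g})) ?_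
  · obtain ⟨t, rfl⟩ := ConjClasses.exists_rep c
    exact ⟨t, rfl, hord t⟩
  · rintro ⟨_, g, rfl, hg⟩
    obtain ⟨x, hx⟩ := hdom' g hg
    refine ⟨ConjClasses.mk ⟨x * g * x⁻¹, hx⟩, Subtype.ext ?_⟩
    show ConjClasses.mk (x * g * x⁻¹) = ConjClasses.mk g
    rw [ConjClasses.mk_eq_mk_iff_isConj]
    exact (isConj_iff.2 ⟨x, rfl⟩).symm

end Cfsg.Agent.H415.KGL.F2
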